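import Cfsg.Agent.Lib.Chev.Aut.OutStruct
import Cfsg.Agent.Lib.Chev.Aut.TD4
import Cfsg.Agent.Lib.Chev.Tab.D4g

/-! The graph automorphisms of type D4. -/

set_option autoImplicit false
set_option linter.style.haveILetI false
set_option maxRecDepth 100000

namespace Cfsg.Agent.Lib.Chev.TabD4

open Cfsg Cfsg.Lie

/-- nodes -/
def gRi3 : List ℕ := [2, 1, 0, 3]
/-- roots -/
def gR3 : List ℕ := [0, 1, 2, 6, 7, 10, 3, 4, 8, 9, 5, 11, 12, 18, 14, 15, 19, 20, 13, 16, 17, 21, 22, 23]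
/-- signs -/
def gE3 : List ℤ := [1, 1, 1, -1, -1, 1, -1, -1, 1, 1, 1, 1, 1, 1, 1, 1, -1, -1, 1, -1, -1, 1, 1, 1]

theorem g_chk3 : chkG fd.tbl (fun i => gRi3.getD i 0) (fun i => gR3.getD i 0) (fun i => gRi3.getD i 0)
    (fun i => gR3.getD i 0) (fun i => gE3.getD i 0) 1 = true := by decide +kernel

/-- The symmetry data. -/
def graph3 : GraphData chevD4 :=
  GraphData.ofChk _ _ _ _ _ _ _ (tbl_eq ▸ g_chk3)

theorem aut_a_lt : ∀ i : Fin chevD4.rank, gRi.getD i.val 0 < chevD4.rank := by decide +kernel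
theorem aut_a_lt' : ∀ i : Fin chevD4.rank, gRi'.getD i.val 0 < chevD4.rank := by decide +kernel
theorem aut_a_inv : ∀ i : Fin chevD4.rank, gRi'.getD (gRi.getD i.val 0) 0 = i.val := by decide +kernel
theorem aut_a_inv' : ∀ i : Fin chevD4.rank, gRi.getD (gRi'.getD i.val 0) 0 = i.val := by decide +kernel
theorem aut_b_lt : ∀ i : Fin chevD4.rank, gRi3.getD i.val 0 < chevD4.rank := by decide +kernel
theorem aut_b_inv : ∀ i : Fin chevD4.rank, gRi3.getD (gRi3.getD i.val 0) 0 = i.val := by decide +kernel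

/-- A symmetry of order three. -/
def aut_a : Equiv.Perm (Fin chevD4.rank) where
  toFun i := ⟨gRi.getD i.val 0, aut_a_lt i⟩
  invFun i := ⟨gRi'.getD i.val 0, aut_a_lt' i⟩
  left_inv i := Fin.ext (aut_a_inv i)
  right_inv i := Fin.ext (aut_a_inv' i)

/-- A symmetry of order two. -/
def aut_b : Equiv.Perm (Fin chevD4.rank) where
  toFun i := ⟨gRi3.getD i.val 0, aut_b_lt i⟩
  invFun i := ⟨gRi3.getD i.val 0, aut_b_lt i⟩
  left_inv i := Fin.ext (aut_b_inv i)
  right_inv i := Fin.ext (aut_b_inv i)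

theorem aut_six : ∀ ρ : Equiv.Perm (Fin chevD4.rank), (∀ i j : Fin chevD4.rank, i ≠ j →
      (chevD4.cartan i (chevD4.simple j) = 0 ↔ chevD4.cartan (ρ i) (chevD4.simple (ρ j)) = 0)) →
    ρ = 1 ∨ ρ = aut_a ∨ ρ = aut_a * aut_a ∨ ρ = aut_b ∨ ρ = aut_a * aut_b ∨ ρ = aut_a * aut_a * aut_b := by decide +kernel

theorem aut_card6 : (Finset.univ.filter fun ρ : Equiv.Perm (Fin chevD4.rank) => (∀ i j : Fin chevD4.rank, i ≠ j →
      (chevD4.cartan i (chevD4.simple j) = 0 ↔ chevD4.cartan (ρ i) (chevD4.simple (ρ j)) = 0))).card = 6 := by decide +kernel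

theorem aut_comm_ne : aut_a * aut_b * aut_a⁻¹ * aut_b⁻¹ ≠ 1 := by decide +kernel

variable {F : Type*} [Field F]

theorem aut_a_mem : aut_a ∈ GP good5 F :=
  GraphData.mem_GP good5 graph aut_a (by decide +kernel) (by decide +kernel) (by decide +kernel) (by decide +kernel) (fun i => aut_hL _)
    (fun r h => (by decide +kernel : ∀ r, r < chevD4.nroots → chevD4.IsPosRoot r → chevD4.IsPosRoot (graph.ρ r)) r h.1 h)
    (fun r h => (by decide +kernel : ∀ r, r < chevD4.nroots → chevD4.IsPosRoot r → chevD4.IsPosRoot (graph.ρ' r)) r h.1 h)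
    (fun r h => (by decide +kernel : ∀ r, r < chevD4.nroots → chevD4.IsNegRoot r → chevD4.IsNegRoot (graph.ρ r)) r h.1 h)
    (fun r h => (by decide +kernel : ∀ r, r < chevD4.nroots → chevD4.IsNegRoot r → chevD4.IsNegRoot (graph.ρ' r)) r h.1 h)

theorem aut_b_mem : aut_b ∈ GP good5 F :=
  GraphData.mem_GP good5 graph3 aut_b (by decide +kernel) (by decide +kernel) (by decide +kernel) (by decide +kernel) (fun i => aut_hL _)
    (fun r h => (by decide +kernel : ∀ r, r < chevD4.nroots → chevD4.IsPosRoot r → chevD4.IsPosRoot (graph3.ρ r)) r h.1 h)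
    (fun r h => (by decide +kernel : ∀ r, r < chevD4.nroots → chevD4.IsPosRoot r → chevD4.IsPosRoot (graph3.ρ' r)) r h.1 h)
    (fun r h => (by decide +kernel : ∀ r, r < chevD4.nroots → chevD4.IsNegRoot r → chevD4.IsNegRoot (graph3.ρ r)) r h.1 h)
    (fun r h => (by decide +kernel : ∀ r, r < chevD4.nroots → chevD4.IsNegRoot r → chevD4.IsNegRoot (graph3.ρ' r)) r h.1 h)

theorem aut_hS (c : ℕ) : ∀ i j : Fin chevD4.rank, chevD4.graphExp c i j = 1 := fun i j => graphExp_of_short _ (aut_hL j)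

theorem aut_hT1 : ∀ i j, i < chevD4.rank → j < chevD4.rank → i ≠ j → chevD4.cartan i (chevD4.simple j) = 0 →
      good5.W j (chevD4.simple i) = chevD4.simple i ∧ good5.S j (chevD4.simple i) = 1 :=
  fun i j hi hj h => aut_hT1' i hi j hj h

theorem aut_GP_card [Finite F] : Nat.card (GP good5 F) = 6 := by
  classical
  have hmul : ∀ {ρ ρ' : Equiv.Perm (Fin chevD4.rank)}, ρ ∈ GP good5 F → ρ' ∈ GP good5 F → ρ * ρ' ∈ GP good5 F :=
    fun h h' => good5.GP_mul aut_hrc aut_hT1 aut_hfin (aut_hS _) h h'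
  have e : GP good5 F = ↑(Finset.univ.filter fun ρ : Equiv.Perm (Fin chevD4.rank) => (∀ i j : Fin chevD4.rank, i ≠ j →
      (chevD4.cartan i (chevD4.simple j) = 0 ↔ chevD4.cartan (ρ i) (chevD4.simple (ρ j)) = 0))) := by
    ext ρ
    simp only [Finset.coe_filter, Finset.mem_univ, true_and, Set.mem_ofPred_eq]
    constructor
    · intro h
      exact (good5.GP_rel aut_hT1 h).1
    · intro h
      have ha := aut_a_mem (F := F)
      have hb := aut_b_mem (F := F)
      rcases aut_six ρ h with rfl | rfl | rfl | rfl | rfl | rfl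
      · exact good5.one_mem_GP
      · exact ha
      · exact hmul ha ha
      · exact hb
      · exact hmul ha hb
      · exact hmul (hmul ha ha) hb
  rw [e, Nat.card_coe_set_eq, Set.ncard_coe_finset, aut_card6]

theorem aut_comm_not_le [Finite F] :
    ¬ commutator (Out ↥(chevD4.group F)) ≤ (good5.barD (F := F) aut_hrc).range ⊔ (good5.barF (F := F)).range :=
  good5.comm_not_le aut_hrc aut_hT1 aut_hfin (aut_hS _) aut_a_mem aut_b_mem aut_comm_ne

end Cfsg.Agent.Lib.Chev.TabD4
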