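import Cfsg.Agent.Lib.Chev.Aut.OutGen
import Cfsg.Agent.Lib.Chev.Aut.TE8

/-! The outer automorphism group of type E8. -/

set_option autoImplicit false
set_option linter.style.haveILetI false
set_option maxRecDepth 100000
set_option synthInstance.maxHeartbeats 0
set_option synthInstance.maxSize 100000

namespace Cfsg.Agent.Lib.Chev.TabE8

open Cfsg Cfsg.Lie

theorem aut_rigid : 
  ∀ a7 : Fin chevE8.rank,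
  ∀ a6 : Fin chevE8.rank,
  ((a6 ≠ a7 ∧ (chevE8.cartan (⟨6, by decide⟩ : Fin chevE8.rank) (chevE8.simple (⟨7, by decide⟩ : Fin chevE8.rank)) = 0 ↔ chevE8.cartan a6 (chevE8.simple a7) = 0))) →
  ∀ a5 : Fin chevE8.rank,
  ((a5 ≠ a7 ∧ (chevE8.cartan (⟨5, by decide⟩ : Fin chevE8.rank) (chevE8.simple (⟨7, by decide⟩ : Fin chevE8.rank)) = 0 ↔ chevE8.cartan a5 (chevE8.simple a7) = 0)) ∧ (a5 ≠ a6 ∧ (chevE8.cartan (⟨5, by decide⟩ : Fin chevE8.rank) (chevE8.simple (⟨6, by decide⟩ : Fin chevE8.rank)) = 0 ↔ chevE8.cartan a5 (chevE8.simple a6) = 0))) →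
  ∀ a4 : Fin chevE8.rank,
  ((a4 ≠ a7 ∧ (chevE8.cartan (⟨4, by decide⟩ : Fin chevE8.rank) (chevE8.simple (⟨7, by decide⟩ : Fin chevE8.rank)) = 0 ↔ chevE8.cartan a4 (chevE8.simple a7) = 0)) ∧ (a4 ≠ a6 ∧ (chevE8.cartan (⟨4, by decide⟩ : Fin chevE8.rank) (chevE8.simple (⟨6, by decide⟩ : Fin chevE8.rank)) = 0 ↔ chevE8.cartan a4 (chevE8.simple a6) = 0)) ∧ (a4 ≠ a5 ∧ (chevE8.cartan (⟨4, by decide⟩ : Fin chevE8.rank) (chevE8.simple (⟨5, by decide⟩ : Fin chevE8.rank)) = 0 ↔ chevE8.cartan a4 (chevE8.simple a5) = 0))) →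
  ∀ a3 : Fin chevE8.rank,
  ((a3 ≠ a7 ∧ (chevE8.cartan (⟨3, by decide⟩ : Fin chevE8.rank) (chevE8.simple (⟨7, by decide⟩ : Fin chevE8.rank)) = 0 ↔ chevE8.cartan a3 (chevE8.simple a7) = 0)) ∧ (a3 ≠ a6 ∧ (chevE8.cartan (⟨3, by decide⟩ : Fin chevE8.rank) (chevE8.simple (⟨6, by decide⟩ : Fin chevE8.rank)) = 0 ↔ chevE8.cartan a3 (chevE8.simple a6) = 0)) ∧ (a3 ≠ a5 ∧ (chevE8.cartan (⟨3, by decide⟩ : Fin chevE8.rank) (chevE8.simple (⟨5, by decide⟩ : Fin chevE8.rank)) = 0 ↔ chevE8.cartan a3 (chevE8.simple a5) = 0)) ∧ (a3 ≠ a4 ∧ (chevE8.cartan (⟨3, by decide⟩ : Fin chevE8.rank) (chevE8.simple (⟨4, by decide⟩ : Fin chevE8.rank)) = 0 ↔ chevE8.cartan a3 (chevE8.simple a4) = 0))) →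
  ∀ a2 : Fin chevE8.rank,
  ((a2 ≠ a7 ∧ (chevE8.cartan (⟨2, by decide⟩ : Fin chevE8.rank) (chevE8.simple (⟨7, by decide⟩ : Fin chevE8.rank)) = 0 ↔ chevE8.cartan a2 (chevE8.simple a7) = 0)) ∧ (a2 ≠ a6 ∧ (chevE8.cartan (⟨2, by decide⟩ : Fin chevE8.rank) (chevE8.simple (⟨6, by decide⟩ : Fin chevE8.rank)) = 0 ↔ chevE8.cartan a2 (chevE8.simple a6) = 0)) ∧ (a2 ≠ a5 ∧ (chevE8.cartan (⟨2, by decide⟩ : Fin chevE8.rank) (chevE8.simple (⟨5, by decide⟩ : Fin chevE8.rank)) = 0 ↔ chevE8.cartan a2 (chevE8.simple a5) = 0)) ∧ (a2 ≠ a4 ∧ (chevE8.cartan (⟨2, by decide⟩ : Fin chevE8.rank) (chevE8.simple (⟨4, by decide⟩ : Fin chevE8.rank)) = 0 ↔ chevE8.cartan a2 (chevE8.simple a4) = 0)) ∧ (a2 ≠ a3 ∧ (chevE8.cartan (⟨2, by decide⟩ : Fin chevE8.rank) (chevE8.simple (⟨3, by decide⟩ : Fin chevE8.rank)) = 0 ↔ chevE8.cartan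 a2 (chevE8.simple a3) = 0))) →
  ∀ a1 : Fin chevE8.rank,
  ((a1 ≠ a7 ∧ (chevE8.cartan (⟨1, by decide⟩ : Fin chevE8.rank) (chevE8.simple (⟨7, by decide⟩ : Fin chevE8.rank)) = 0 ↔ chevE8.cartan a1 (chevE8.simple a7) = 0)) ∧ (a1 ≠ a6 ∧ (chevE8.cartan (⟨1, by decide⟩ : Fin chevE8.rank) (chevE8.simple (⟨6, by decide⟩ : Fin chevE8.rank)) = 0 ↔ chevE8.cartan a1 (chevE8.simple a6) = 0)) ∧ (a1 ≠ a5 ∧ (chevE8.cartan (⟨1, by decide⟩ : Fin chevE8.rank) (chevE8.simple (⟨5, by decide⟩ : Fin chevE8.rank)) = 0 ↔ chevE8.cartan a1 (chevE8.simple a5) = 0)) ∧ (a1 ≠ a4 ∧ (chevE8.cartan (⟨1, by decide⟩ : Fin chevE8.rank) (chevE8.simple (⟨4, by decide⟩ : Fin chevE8.rank)) = 0 ↔ chevE8.cartan a1 (chevE8.simple a4) = 0)) ∧ (a1 ≠ a3 ∧ (chevE8.cartan (⟨1, by decide⟩ : Fin chevE8.rank) (chevE8.simple (⟨3, by decide⟩ : Fin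 chevE8.rank)) = 0 ↔ chevE8.cartan a1 (chevE8.simple a3) = 0)) ∧ (a1 ≠ a2 ∧ (chevE8.cartan (⟨1, by decide⟩ : Fin chevE8.rank) (chevE8.simple (⟨2, by decide⟩ : Fin chevE8.rank)) = 0 ↔ chevE8.cartan a1 (chevE8.simple a2) = 0))) →
  ∀ a0 : Fin chevE8.rank,
  ((a0 ≠ a7 ∧ (chevE8.cartan (⟨0, by decide⟩ : Fin chevE8.rank) (chevE8.simple (⟨7, by decide⟩ : Fin chevE8.rank)) = 0 ↔ chevE8.cartan a0 (chevE8.simple a7) = 0)) ∧ (a0 ≠ a6 ∧ (chevE8.cartan (⟨0, by decide⟩ : Fin chevE8.rank) (chevE8.simple (⟨6, by decide⟩ : Fin chevE8.rank)) = 0 ↔ chevE8.cartan a0 (chevE8.simple a6) = 0)) ∧ (a0 ≠ a5 ∧ (chevE8.cartan (⟨0, by decide⟩ : Fin chevE8.rank) (chevE8.simple (⟨5, by decide⟩ : Fin chevE8.rank)) = 0 ↔ chevE8.cartan a0 (chevE8.simple a5) = 0)) ∧ (a0 ≠ a4 ∧ (chevE8.cartan (⟨0, by decide⟩ : Fin chevE8.rank) (chevE8.simple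 (⟨4, by decide⟩ : Fin chevE8.rank)) = 0 ↔ chevE8.cartan a0 (chevE8.simple a4) = 0)) ∧ (a0 ≠ a3 ∧ (chevE8.cartan (⟨0, by decide⟩ : Fin chevE8.rank) (chevE8.simple (⟨3, by decide⟩ : Fin chevE8.rank)) = 0 ↔ chevE8.cartan a0 (chevE8.simple a3) = 0)) ∧ (a0 ≠ a2 ∧ (chevE8.cartan (⟨0, by decide⟩ : Fin chevE8.rank) (chevE8.simple (⟨2, by decide⟩ : Fin chevE8.rank)) = 0 ↔ chevE8.cartan a0 (chevE8.simple a2) = 0)) ∧ (a0 ≠ a1 ∧ (chevE8.cartan (⟨0, by decide⟩ : Fin chevE8.rank) (chevE8.simple (⟨1, by decide⟩ : Fin chevE8.rank)) = 0 ↔ chevE8.cartan a0 (chevE8.simple a1) = 0))) →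
  (a7.val = 7 ∧ a6.val = 6 ∧ a5.val = 5 ∧ a4.val = 4 ∧ a3.val = 3 ∧ a2.val = 2 ∧ a1.val = 1 ∧ a0.val = 0) := by decide +kernel

theorem aut_rigid_apply (ρ : Equiv.Perm (Fin chevE8.rank)) (hZ : ZeroPat chevE8 ρ) :
    ((ρ ⟨7, by decide⟩).val = 7 ∧ (ρ ⟨6, by decide⟩).val = 6 ∧ (ρ ⟨5, by decide⟩).val = 5 ∧ (ρ ⟨4, by decide⟩).val = 4 ∧ (ρ ⟨3, by decide⟩).val = 3 ∧ (ρ ⟨2, by decide⟩).val = 2 ∧ (ρ ⟨1, by decide⟩).val = 1 ∧ (ρ ⟨0, by decide⟩).val = 0) := by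
  have c : ∀ i j : Fin chevE8.rank, i ≠ j → ρ i ≠ ρ j ∧ (chevE8.cartan i (chevE8.simple j) = 0 ↔ chevE8.cartan (ρ i) (chevE8.simple (ρ j)) = 0) :=
    fun i j h => ⟨fun e => h (ρ.injective e), hZ i j h⟩
  exact aut_rigid (ρ ⟨7, by decide⟩) (ρ ⟨6, by decide⟩) (c ⟨6, by decide⟩ ⟨7, by decide⟩ (by decide)) (ρ ⟨5, by decide⟩) ⟨c ⟨5, by decide⟩ ⟨7, by decide⟩ (by decide), c ⟨5, by decide⟩ ⟨6, by decide⟩ (by decide)⟩ (ρ ⟨4, by decide⟩) ⟨c ⟨4, by decide⟩ ⟨7, by decide⟩ (by decide), c ⟨4, by decide⟩ ⟨6, by decide⟩ (by decide), c ⟨4, by decide⟩ ⟨5, by decide⟩ (by decide)⟩ (ρ ⟨3, by decide⟩) ⟨c ⟨3, by decide⟩ ⟨7, by decide⟩ (by decide), c ⟨3, by decide⟩ ⟨6, by decide⟩ (by decide), c ⟨3, by decide⟩ ⟨5, by decide⟩ (by decide), c ⟨3, by decide⟩ ⟨4, by decide⟩ (by decide)⟩ (ρ ⟨2, by decide⟩) ⟨c ⟨2, by decide⟩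 ⟨7, by decide⟩ (by decide), c ⟨2, by decide⟩ ⟨6, by decide⟩ (by decide), c ⟨2, by decide⟩ ⟨5, by decide⟩ (by decide), c ⟨2, by decide⟩ ⟨4, by decide⟩ (by decide), c ⟨2, by decide⟩ ⟨3, by decide⟩ (by decide)⟩ (ρ ⟨1, by decide⟩) ⟨c ⟨1, by decide⟩ ⟨7, by decide⟩ (by decide), c ⟨1, by decide⟩ ⟨6, by decide⟩ (by decide), c ⟨1, by decide⟩ ⟨5, by decide⟩ (by decide), c ⟨1, by decide⟩ ⟨4, by decide⟩ (by decide), c ⟨1, by decide⟩ ⟨3, by decide⟩ (by decide), c ⟨1, by decide⟩ ⟨2, by decide⟩ (by decide)⟩ (ρ ⟨0, by decide⟩) ⟨c ⟨0, by decide⟩ ⟨7, by decide⟩ (by decide), c ⟨0, by decide⟩ ⟨6, by decide⟩ (by decide), c ⟨0, by decide⟩ ⟨5, by decide⟩ (by decide), c ⟨0, by decide⟩ ⟨4, by decide⟩ (by decide), c ⟨0, by decide⟩ ⟨3, by decide⟩ (by decide), c ⟨0, by decide⟩ ⟨2, by decide⟩ (by decide), c ⟨0, by decide⟩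 ⟨1, by decide⟩ (by decide)⟩

theorem aut_fin_vals : ∀ i : Fin chevE8.rank, i.val = 0 ∨ i.val = 1 ∨ i.val = 2 ∨ i.val = 3 ∨ i.val = 4 ∨ i.val = 5 ∨ i.val = 6 ∨ i.val = 7 := by
  decide +kernel

theorem aut_rigid_one (ρ : Equiv.Perm (Fin chevE8.rank)) (hZ : ZeroPat chevE8 ρ) : ρ = 1 := by
  obtain ⟨h7, h6, h5, h4, h3, h2, h1, h0⟩ := aut_rigid_apply ρ hZ
  apply Equiv.ext
  rintro ⟨i, hi⟩
  apply Fin.ext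
  rcases aut_fin_vals ⟨i, hi⟩ with e | e | e | e | e | e | e | e <;> simp only at e <;> subst e
  · exact h0
  · exact h1
  · exact h2
  · exact h3
  · exact h4
  · exact h5
  · exact h6
  · exact h7

theorem aut_Hcard {F : Type*} [Field F] [Fintype F] {q : ℕ} (hq : Fintype.card F = q) :
    1 * Nat.card (chevE8.diagonalSubgroup F) = (q - 1) ^ chevE8.rank := by
  have h := good5.toGood2.H_card_of_smith (F := F) hq (matOf 8 [[-1, 0, 0, 0, 0, 0, 0, 0], [0, -1, 0, 0, 0, 0, 0, 0], [1, -2, 0, -1, 0, 0, 0, 0], [2, -3, 0, -2, -1, 0, 0, 0], [3, -4, 0, -3, -2, -1, 0, 0], [4, -5, 0, -4, -3, -2, -1, 0], [-2, 1, -1, 0, 0, 0, 0, 0], [-3, -2, -4, -5, -4, -3, -2, -1]])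
    (matOf 8 [[0, 0, 0, 0, 0, 0, 1, -2], [0, 0, 0, 0, 0, 0, 2, -3], [1, 0, 0, 0, 0, 0, 2, -4], [0, 1, 0, 0, 0, 0, 4, -6], [0, 0, 1, 0, 0, 0, 4, -5], [0, 0, 0, 1, 0, 0, 4, -4], [0, 0, 0, 0, 1, 0, 4, -3], [0, 0, 0, 0, 0, 1, 4, -2]])
    (matOf 8 [[-1, 0, 0, 0, 0, 0, 0, 0], [0, -1, 0, 0, 0, 0, 0, 0], [2, -1, 0, 0, 0, 0, -1, 0], [-1, 2, -1, 0, 0, 0, 0, 0], [0, -1, 2, -1, 0, 0, 0, 0], [0, 0, -1, 2, -1, 0, 0, 0], [0, 0, 0, -1, 2, -1, 0, 0], [0, 0, 0, 0, -1, 2, 4, -1]])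
    (matOf 8 [[-2, 0, 1, 0, 0, 0, 0, 0], [0, -2, 0, 1, 0, 0, 0, 0], [2, -3, 0, 0, 1, 0, 0, 0], [4, -4, 0, 0, 0, 1, 0, 0], [6, -5, 0, 0, 0, 0, 1, 0], [8, -6, 0, 0, 0, 0, 0, 1], [-3, 2, 0, 0, 0, 0, 0, 0], [-2, 1, 0, 0, 0, 0, 0, 0]])
    (dOfA 8 [1, 1, 1, 1, 1, 1, 1, 1]) (by decide +kernel) (by decide +kernel) (by decide +kernel) (by decide +kernel) (by decide +kernel)
  have h2 : (∏ i : Fin chevE8.rank, Nat.gcd (dOfA 8 [1, 1, 1, 1, 1, 1, 1, 1] i) (q - 1)) = 1 := by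
    show (∏ i : Fin 8, Nat.gcd (dOfA 8 [1, 1, 1, 1, 1, 1, 1, 1] i) (q - 1)) = 1
    simp [Fin.prod_univ_succ, dOfA, sq]
  rw [h2] at h
  exact h

end Cfsg.Agent.Lib.Chev.TabE8
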